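import Groth.Agent.HilbPoly.Tensor

/-!
# Associativity of tensor products with invertible modules, on simple tensors
-/

universe u

open CategoryTheory CategoryTheory.Limits MonoidalCategory AlgebraicGeometry Opposite TopologicalSpace
open scoped TensorProduct

set_option autoImplicit false
set_option backward.isDefEq.respectTransparency false

namespace Groth.Agent.SecTensor

open InvBasic ProjUniv Groth.Agent.InvPow Groth.Agent.HilbPoly

variable {X : Scheme.{u}}

theorem same_symm {F M N : X.Modules} {κ : Type u} {V : κ → X.Opens} {T : Loc F M V} {T' : Loc F N V}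
    (h : T.Same T') : T'.Same T := by
  intro i j W hi hj m m' e
  obtain ⟨m'', hm''⟩ := (T.bij j hj).2 (T.β i hi m)
  rw [← hm'']
  exact congrArg (T.β j hj) ((T'.bij j hj).1 ((h i j W hi hj m m'' hm''.symm).symm.trans e))

theorem tmul_smul₁ {F A B : X.Modules} {W : X.Opens} (m : Γ(F, W)) (a : Γ(A, W)) (b : Γ(B, W))
    (c d : Γ(X, W)) :
    (SecTwist.tmul (CohB1.tensorMod F A) B W (SecTwist.tmul F A W m (c • a)) (d • b) :
        Γ(CohB1.tensorMod (CohB1.tensorMod F A) B, W)) =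
      (d * c) • SecTwist.tmul (CohB1.tensorMod F A) B W (SecTwist.tmul F A W m a) b := by
  have e1 : (SecTwist.tmul F A W m (c • a) : Γ(CohB1.tensorMod F A, W)) = c • SecTwist.tmul F A W m a :=
    (ProjCoh.tmul_smul_right F A W c m a).trans (ProjCoh.tmul_smul_left F A W c m a)
  refine (congrArg (fun z : Γ(CohB1.tensorMod F A, W) =>
    SecTwist.tmul (CohB1.tensorMod F A) B W z (d • b)) e1).trans ?_
  refine (ProjCoh.tmul_smul_left (CohB1.tensorMod F A) B W c _ _).trans ?_
  refine (congrArg (fun z : Γ(CohB1.tensorMod (CohB1.tensorMod F A) B, W) => c • z)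
    ((ProjCoh.tmul_smul_right (CohB1.tensorMod F A) B W d _ b).trans
      (ProjCoh.tmul_smul_left (CohB1.tensorMod F A) B W d _ b))).trans ?_
  exact (smul_smul c d _).trans (congrArg (fun r : Γ(X, W) => r • _) (mul_comm c d))

theorem tmul_smul₂ {F A B : X.Modules} {W : X.Opens} (m : Γ(F, W)) (a : Γ(A, W)) (b : Γ(B, W))
    (c d : Γ(X, W)) :
    (SecTwist.tmul F (CohB1.tensorMod A B) W m (SecTwist.tmul A B W (c • a) (d • b)) :
        Γ(CohB1.tensorMod F (CohB1.tensorMod A B), W)) =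
      (d * c) • SecTwist.tmul F (CohB1.tensorMod A B) W m (SecTwist.tmul A B W a b) := by
  have e1 : (SecTwist.tmul A B W (c • a) (d • b) : Γ(CohB1.tensorMod A B, W)) =
      (d * c) • SecTwist.tmul A B W a b := by
    refine (ProjCoh.tmul_smul_left A B W c _ _).trans ?_
    refine (congrArg (fun z : Γ(CohB1.tensorMod A B, W) => c • z)
      ((ProjCoh.tmul_smul_right A B W d a b).trans (ProjCoh.tmul_smul_left A B W d a b))).trans ?_
    exact (smul_smul c d _).trans (congrArg (fun r : Γ(X, W) => r • _) (mul_comm c d))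
  refine (congrArg (fun z : Γ(CohB1.tensorMod A B, W) => SecTwist.tmul F (CohB1.tensorMod A B) W m z) e1).trans ?_
  exact (ProjCoh.tmul_smul_right F _ W (d * c) m _).trans (ProjCoh.tmul_smul_left F _ W (d * c) m _)

/-- `(F ⊗ A) ⊗ B → F ⊗ (A ⊗ B)` for invertible `A`, `B`: surjective on global sections, and given by
reassociation on simple tensors. -/
theorem exists_assoc_hom (F : X.Modules) {A B : X.Modules} (hA : PicF.IsInvertible A)
    (hB : PicF.IsInvertible B) :
    ∃ φ : CohB1.tensorMod (CohB1.tensorMod F A) B ⟶ CohB1.tensorMod F (CohB1.tensorMod A B),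
      Function.Surjective (φ.app ⊤) ∧ ∀ (m : Γ(F, ⊤)) (a : Γ(A, ⊤)) (b : Γ(B, ⊤)),
        φ.app ⊤ (SecTwist.tmul (CohB1.tensorMod F A) B ⊤ (SecTwist.tmul F A ⊤ m a) b) =
          SecTwist.tmul F (CohB1.tensorMod A B) ⊤ m (SecTwist.tmul A B ⊤ a b) := by
  choose V hxV a ha b hb using fun x : X => show ∃ (V : X.Opens) (_ : x ∈ V) (a : Γ(A, V)) (_ : IsBasis A a)
      (b : Γ(B, V)), IsBasis B b by
    obtain ⟨U, hx, a, ha⟩ := exists_isBasis hA x
    obtain ⟨U', hx', b, hb⟩ := exists_isBasis hB x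
    exact ⟨U ⊓ U', ⟨hx, hx'⟩, _, isBasis_res ha inf_le_left, _, isBasis_res hb inf_le_right⟩
  let T := Loc.ofBasis F (E := CohB1.tensorMod A B) (fun x => SecTwist.tmul A B (V x) (a x) (b x))
    fun x => isBasis_tmul (ha x) (hb x)
  let T' := (Loc.ofBasis F a ha).tensor b hb
  have hV : ∀ x : X, ∃ i, x ∈ V i := fun x => ⟨x, hxV x⟩
  have hsame : T.Same T' := fun i j W hi hj m m' e => by
    obtain ⟨ua, hua⟩ := exists_coef (isBasis_res (ha i) hi) (res A hj (a j))
    obtain ⟨ub, hub⟩ := exists_coef (isBasis_res (hb i) hi) (res B hj (b j))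
    have hm : m = (ub * ua) • m' := by
      apply (T.bij i hi).1
      rw [e, T.smul]
      change SecTwist.tmul _ _ _ m' (res _ hj _) =
        (ub * ua) • SecTwist.tmul F (CohB1.tensorMod A B) W m' (res (CohB1.tensorMod A B) hi _)
      rw [res_tmul, res_tmul, hua, hub]
      exact (tmul_smul₂ _ _ _ _ _)
    rw [hm, T'.smul]
    change (ub * ua) • SecTwist.tmul _ _ _ (SecTwist.tmul _ _ _ m' (res A hi (a i))) (res B hi (b i)) =
      SecTwist.tmul _ _ _ (SecTwist.tmul _ _ _ m' (res A hj (a j))) (res B hj (b j))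
    rw [hua, hub]
    exact (tmul_smul₁ _ _ _ _ _).symm
  obtain ⟨φ, hφ⟩ := T'.existsUnique_hom hV T (same_symm hsame)
  obtain ⟨ψ, hψ⟩ := T.existsUnique_hom hV T' hsame
  have hext : ∀ s t : Γ(CohB1.tensorMod F (CohB1.tensorMod A B), ⊤),
      (∀ i, res _ (le_top : V i ≤ ⊤) s = res _ le_top t) → s = t := fun s t h => by
    refine sub_eq_zero.1 (eq_zero_of_cover _ hV (s - t) fun i => ?_)
    have h' := congrArg (res _ (inf_le_right : (⊤ : X.Opens) ⊓ V i ≤ V i)) (h i)
    rw [res_res, res_res] at h'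
    exact (map_sub _ _ _).trans (sub_eq_zero.2 h')
  refine ⟨φ, fun t => ⟨ψ.app ⊤ t, hext _ _ fun i => ?_⟩, fun m a₀ b₀ => hext _ _ fun i => ?_⟩
  · obtain ⟨m, hm⟩ := (T.bij i le_rfl).2 (res _ (le_top : V i ≤ ⊤) t)
    rw [hφ ⊤ _ i (V i) le_top le_rfl m (hψ ⊤ t i (V i) le_top le_rfl m hm.symm), hm]
  · obtain ⟨ua, hua⟩ := exists_coef (isBasis_res (ha i) le_rfl) (res A (le_top : V i ≤ ⊤) a₀)
    obtain ⟨ub, hub⟩ := exists_coef (isBasis_res (hb i) le_rfl) (res B (le_top : V i ≤ ⊤) b₀)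
    have h1 : res (CohB1.tensorMod (CohB1.tensorMod F A) B) (le_top : V i ≤ ⊤)
        (SecTwist.tmul (CohB1.tensorMod F A) B ⊤ (SecTwist.tmul F A ⊤ m a₀) b₀) =
        T'.β i le_rfl ((ub * ua) • res F le_top m) := by
      rw [T'.smul]
      change res (CohB1.tensorMod (CohB1.tensorMod F A) B) _ _ = (ub * ua) • (SecTwist.tmul (CohB1.tensorMod F A) B (V i) (SecTwist.tmul F A (V i) (res F le_top m) (res A le_rfl (a i))) (res B le_rfl (b i)) : Γ(CohB1.tensorMod (CohB1.tensorMod F A) B, V i))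
      rw [res_tmul, res_tmul, hua, hub]
      exact tmul_smul₁ (res F le_top m) _ _ ua ub
    rw [hφ ⊤ _ i (V i) le_top le_rfl _ h1, T.smul]
    change (ub * ua) • SecTwist.tmul F (CohB1.tensorMod A B) _ _ (res (CohB1.tensorMod A B) le_rfl _) = _
    rw [res_tmul, res_tmul, res_tmul, hua, hub]
    exact (tmul_smul₂ _ _ _ _ _).symm

/-- `M ⊗ E ⟶ M ⊗ E'` in the second factor. -/
noncomputable def tMapR (M : X.Modules) {E E' : X.Modules} (g : E ⟶ E') :
    CohB1.tensorMod M E ⟶ CohB1.tensorMod M E' :=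
  (CohB1.sheafifyMod X).map
    (show (CohB1.tensorPre M E : X.PresheafOfModules) ⟶ (CohB1.tensorPre M E' : X.PresheafOfModules) from
      (MonoidalCategory.whiskerLeft (C := CohB1.PMod X) (CohB1.toPMod M) (show CohB1.toPMod E ⟶ CohB1.toPMod E' from g.val)))

theorem tMapR_tmul (M : X.Modules) {E E' : X.Modules} (g : E ⟶ E') (U : X.Opens) (m : Γ(M, U))
    (e : Γ(E, U)) :
    (tMapR M g).app U (SecTwist.tmul M E U m e) = SecTwist.tmul M E' U m (g.app U e) := by
  have h := (PresheafOfModules.sheafificationAdjunction (𝟙 X.ringCatSheaf.obj)).unit.naturality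
    (show (CohB1.tensorPre M E : X.PresheafOfModules) ⟶ (CohB1.tensorPre M E' : X.PresheafOfModules) from
      MonoidalCategory.whiskerLeft (C := CohB1.PMod X) (CohB1.toPMod M) (show CohB1.toPMod E ⟶ CohB1.toPMod E' from g.val))
  exact (congrArg (fun φ => ((φ.app (op U)).hom (m ⊗ₜ e))) h).symm

theorem surjective_tMapR (M : X.Modules) {E E' : X.Modules} (g : E ≅ E') :
    Function.Surjective ((tMapR M g.hom).app (⊤ : X.Opens)) := by
  intro t
  refine ⟨(tMapR M g.inv).app ⊤ t, ?_⟩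
  let e : CohB1.tensorMod M E ≅ CohB1.tensorMod M E' := (CohB1.sheafifyMod X).mapIso
    (MonoidalCategory.whiskerLeftIso (C := CohB1.PMod X) (CohB1.toPMod M)
      ((Scheme.Modules.toPresheafOfModules X).mapIso g))
  have h : tMapR M g.inv ≫ tMapR M g.hom = 𝟙 (CohB1.tensorMod M E') := e.inv_hom_id
  exact congrArg (fun φ : CohB1.tensorMod M E' ⟶ CohB1.tensorMod M E' => φ.app ⊤ t) h

/-- The span of simple tensors of global sections. -/
noncomputable def simple (M E : X.Modules) : AddSubgroup Γ(CohB1.tensorMod M E, ⊤) :=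
  AddSubgroup.closure {z | ∃ (m : Γ(M, ⊤)) (e : Γ(E, ⊤)), SecTwist.tmul M E ⊤ m e = z}

theorem toTensor_mem_simple (M E : X.Modules) (w : (CohB1.tensorPre M E).obj (op ⊤)) :
    (show Γ(CohB1.tensorMod M E, ⊤) from (SecTwist.toTensor M E).app (op ⊤) w) ∈ simple M E := by
  induction w using TensorProduct.induction_on with
  | zero => exact (map_zero ((SecTwist.toTensor M E).app (op ⊤)).hom).symm ▸ zero_mem _
  | tmul m e => exact AddSubgroup.subset_closure ⟨m, e, rfl⟩
  | add a b ha hb => exact (map_add ((SecTwist.toTensor M E).app (op ⊤)).hom a b).symm ▸ add_mem ha hb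

theorem exists_toTensor_of_mem_simple {M E : X.Modules} {t : Γ(CohB1.tensorMod M E, ⊤)} (ht : t ∈ simple M E) :
    ∃ w : (CohB1.tensorPre M E).obj (op ⊤), (SecTwist.toTensor M E).app (op ⊤) w = t := by
  induction ht using AddSubgroup.closure_induction with
  | mem x hx => obtain ⟨m, e, rfl⟩ := hx; exact ⟨_, rfl⟩
  | zero => exact ⟨0, map_zero _⟩
  | add x y _ _ hx hy =>
    obtain ⟨a, rfl⟩ := hx; obtain ⟨b, rfl⟩ := hy
    exact ⟨a + b, map_add _ _ _⟩
  | neg x _ hx => obtain ⟨a, rfl⟩ := hx; exact ⟨-a, map_neg _ _⟩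

/-- Transitivity of surjectivity of multiplication. -/
theorem simple_trans {M A B C : X.Modules} (hA : PicF.IsInvertible A) (hB : PicF.IsInvertible B)
    (g : CohB1.tensorMod A B ≅ C) (h₁ : simple M A = ⊤) (h₂ : simple (CohB1.tensorMod M A) B = ⊤) :
    simple M C = ⊤ := by
  obtain ⟨φ, hφ, hφt⟩ := exists_assoc_hom M hA hB
  rw [eq_top_iff]
  rintro t -
  obtain ⟨t₁, rfl⟩ := surjective_tMapR M g t
  obtain ⟨t₂, rfl⟩ := hφ t₁
  have ht : t₂ ∈ simple (CohB1.tensorMod M A) B := h₂ ▸ AddSubgroup.mem_top t₂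
  induction ht using AddSubgroup.closure_induction with
  | mem x hx =>
    obtain ⟨y, b, rfl⟩ := hx
    have hy : y ∈ simple M A := h₁ ▸ AddSubgroup.mem_top y
    induction hy using AddSubgroup.closure_induction with
    | mem y hy =>
      obtain ⟨m, a, rfl⟩ := hy
      rw [hφt, tMapR_tmul]
      exact AddSubgroup.subset_closure ⟨_, _, rfl⟩
    | zero =>
      rw [show SecTwist.tmul (CohB1.tensorMod M A) B ⊤ (0 : Γ(CohB1.tensorMod M A, ⊤)) b =
        (0 : Γ(CohB1.tensorMod (CohB1.tensorMod M A) B, ⊤)) from ProjCoh.tmul_zero_left _ B _ _, map_zero, map_zero]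
      exact zero_mem _
    | add y y' _ _ hy hy' =>
      rw [show SecTwist.tmul (CohB1.tensorMod M A) B ⊤ (y + y') b =
        (SecTwist.tmul (CohB1.tensorMod M A) B ⊤ y b + SecTwist.tmul (CohB1.tensorMod M A) B ⊤ y' b :
          Γ(CohB1.tensorMod (CohB1.tensorMod M A) B, ⊤)) from ProjCoh.tmul_add_left _ B _ _ _ _, map_add, map_add]
      exact add_mem hy hy'
    | neg y _ hy =>
      have e : SecTwist.tmul (CohB1.tensorMod M A) B ⊤ (-y) b =
          (-(SecTwist.tmul (CohB1.tensorMod M A) B ⊤ y b) :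
            Γ(CohB1.tensorMod (CohB1.tensorMod M A) B, ⊤)) :=
        eq_neg_of_add_eq_zero_left ((ProjCoh.tmul_add_left _ B _ _ _ _).symm.trans
          ((congrArg (fun z => SecTwist.tmul (CohB1.tensorMod M A) B ⊤ z b) (neg_add_cancel y)).trans
            (ProjCoh.tmul_zero_left _ B _ _)))
      rw [e, map_neg, map_neg]
      exact neg_mem hy
  | zero => rw [map_zero, map_zero]; exact zero_mem _
  | add x y _ _ hx hy => rw [map_add, map_add]; exact add_mem hx hy
  | neg x _ hx => rw [map_neg, map_neg]; exact neg_mem hx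

end Groth.Agent.SecTensor
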